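import Groth.Agent.ProjClosed.Quot
import Groth.Agent.AwayQuot.Basic
import Groth.Agent.ProjRed.Basic

/-! A closed subscheme of `Proj A`, `A` generated in degree one, is `Proj (A ⧸ I)`. -/

set_option autoImplicit false
set_option linter.style.haveILetI false
set_option backward.isDefEq.respectTransparency false
universe u
open CategoryTheory CategoryTheory.Limits AlgebraicGeometry TopologicalSpace Opposite

noncomputable section

namespace Groth.Agent.ProjClosed

variable {R A : Type u} [CommRing R] [CommRing A] [Algebra R A] {𝒜 : ℕ → Submodule R A} [GradedAlgebra 𝒜]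

lemma hdeg_id (n : ℕ) : Submodule.map (AlgHom.id R A).toLinearMap (𝒜 n) = 𝒜 (n * 1) := by simp

/-- `a ↦ a / f ^ n` on degree `n`. -/
def τ {f : A} (hf : f ∈ 𝒜 1) : A →+* HomogeneousLocalization.Away 𝒜 f :=
  AwayQuot.σ 𝒜 𝒜 1 (AlgHom.id R A) hdeg_id hf

lemma τ_apply {f : A} (hf : f ∈ 𝒜 1) {n : ℕ} {x : A} (hx : x ∈ 𝒜 n) :
    (τ hf x).val = Localization.mk x (⟨f ^ n, n, rfl⟩ : Submonoid.powers f) :=
  AwayQuot.σ_apply 𝒜 𝒜 1 (AlgHom.id R A) hdeg_id hf hx

lemma τ_surjective {f : A} (hf : f ∈ 𝒜 1) (y : HomogeneousLocalization.Away 𝒜 f) :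
    ∃ (n : ℕ) (a : A), a ∈ 𝒜 n ∧ τ hf a = y := by
  obtain ⟨n, a, ha, rfl⟩ := HomogeneousLocalization.Away.mk_surjective 𝒜 hf y
  refine ⟨n, a, by simpa using ha, ?_⟩
  ext
  rw [τ_apply hf (show a ∈ 𝒜 n by simpa using ha), HomogeneousLocalization.Away.val_mk]

lemma awayMap_τ_eq {f g : A} (hf : f ∈ 𝒜 1) (hg : g ∈ 𝒜 1) {n : ℕ} {a : A} (ha : a ∈ 𝒜 n) :
    HomogeneousLocalization.awayMap 𝒜 hg (rfl : f * g = f * g) (τ hf a) =
      HomogeneousLocalization.awayMap 𝒜 hf (mul_comm f g) (τ hg a) *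
        HomogeneousLocalization.awayMap 𝒜 hg (rfl : f * g = f * g) (τ hf g) ^ n := by
  have h1 : τ hf a = HomogeneousLocalization.Away.mk 𝒜 hf n a (by simpa using ha) := by
    ext; rw [τ_apply hf ha, HomogeneousLocalization.Away.val_mk]
  have h2 : τ hg a = HomogeneousLocalization.Away.mk 𝒜 hg n a (by simpa using ha) := by
    ext; rw [τ_apply hg ha, HomogeneousLocalization.Away.val_mk]
  have h3 : τ hf g = HomogeneousLocalization.Away.mk 𝒜 hf 1 g (by simpa using hg) := by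
    ext; rw [τ_apply hf hg, HomogeneousLocalization.Away.val_mk]
  rw [h1, h2, h3, HomogeneousLocalization.awayMap_mk, HomogeneousLocalization.awayMap_mk,
    HomogeneousLocalization.awayMap_mk]
  ext
  simp only [HomogeneousLocalization.val_mul, HomogeneousLocalization.val_pow,
    HomogeneousLocalization.Away.val_mk, Localization.mk_pow, Localization.mk_mul]
  rw [Localization.mk_eq_mk_iff, Localization.r_iff_exists]
  exact ⟨1, by simp [mul_pow]; ring⟩

lemma basicOpen_section_le {f g : A} (hf : f ∈ 𝒜 1) (hg : g ∈ 𝒜 1) :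
    (Proj 𝒜).basicOpen ((Proj.awayToSection 𝒜 f).hom (τ hf g)) ≤ Proj.basicOpen 𝒜 (f * g) := by
  intro x hx
  have hxf : x ∈ Proj.basicOpen 𝒜 f := (Proj 𝒜).basicOpen_le _ hx
  rw [Scheme.mem_basicOpen _ _ x hxf] at hx
  have e : ((Proj 𝒜).presheaf.germ _ x hxf) ((Proj.awayToSection 𝒜 f).hom (τ hf g)) =
      (Proj.stalkIso' 𝒜 x).symm
        (HomogeneousLocalization.mapId 𝒜 (Submonoid.powers_le.mpr hxf) (τ hf g)) := by
    have := congr(($(ProjectiveSpectrum.Proj.awayToSection_germ 𝒜 f x hxf)).hom (τ hf g))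
    exact this
  rw [e] at hx
  haveI := x.isPrime
  replace hx : IsUnit (HomogeneousLocalization.mapId 𝒜
      ((Submonoid.powers_le (P := x.asHomogeneousIdeal.toIdeal.primeCompl)).mpr hxf) (τ hf g)) := by
    have h := IsUnit.map (Proj.stalkIso' 𝒜 x).toRingHom hx
    erw [RingEquiv.apply_symm_apply] at h
    exact h
  rw [← HomogeneousLocalization.isUnit_iff_isUnit_val] at hx
  rw [Proj.basicOpen_mul]
  refine ⟨hxf, fun hgx => ?_⟩
  have h3 : τ hf g = HomogeneousLocalization.Away.mk 𝒜 hf 1 g (by simpa using hg) := by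
    ext; rw [τ_apply hf hg, HomogeneousLocalization.Away.val_mk]
  rw [h3] at hx
  haveI := x.isPrime
  change IsUnit (HomogeneousLocalization.val (HomogeneousLocalization.mk _)) at hx
  rw [HomogeneousLocalization.val_mk, Localization.mk_eq_mk', IsLocalization.AtPrime.isUnit_mk'_iff] at hx
  exact hx hgx

variable {Z : Scheme.{u}} (i : Z ⟶ Proj 𝒜)

/-- sections of `Z` over `D₊(f)` coming from `A`. -/
def ψ {f : A} (hf : f ∈ 𝒜 1) : A →+* Γ(Z, i ⁻¹ᵁ Proj.basicOpen 𝒜 f) :=
  (i.app _).hom.comp ((Proj.awayToSection 𝒜 f).hom.comp (τ hf))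

lemma exists_pow_ψ_eq_zero [IsAffineHom i] {f g : A} (hf : f ∈ 𝒜 1) (hg : g ∈ 𝒜 1) {n : ℕ} {a : A}
    (ha : a ∈ 𝒜 n) (h0 : ψ i hg a = 0) : ∃ m, ψ i hf (g ^ m * a) = 0 := by
  have hW : IsAffineOpen (i ⁻¹ᵁ Proj.basicOpen 𝒜 f) :=
    (Proj.isAffineOpen_basicOpen 𝒜 f hf one_pos).preimage i
  set t := ψ i hf g with ht
  have hle : Z.basicOpen t ≤ i ⁻¹ᵁ Proj.basicOpen 𝒜 (f * g) := by
    rw [ht]
    change Z.basicOpen (i.app _ ((Proj.awayToSection 𝒜 f).hom (τ hf g))) ≤ _
    rw [← Scheme.Hom.preimage_basicOpen]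
    exact i.preimage_mono (basicOpen_section_le hf hg)
  have hlef : i ⁻¹ᵁ Proj.basicOpen 𝒜 (f * g) ≤ i ⁻¹ᵁ Proj.basicOpen 𝒜 f :=
    i.preimage_mono (Proj.basicOpen_mono 𝒜 _ _ ⟨g, rfl⟩)
  have hleg : i ⁻¹ᵁ Proj.basicOpen 𝒜 (f * g) ≤ i ⁻¹ᵁ Proj.basicOpen 𝒜 g :=
    i.preimage_mono (Proj.basicOpen_mono 𝒜 _ _ ⟨f, mul_comm f g⟩)
  -- restrictions to `D₊(fg)`
  have key : ∀ {h k : A} (hh : h ∈ 𝒜 1) (hk : k ∈ 𝒜 1) (hx : f * g = h * k)
      (hle' : i ⁻¹ᵁ Proj.basicOpen 𝒜 (f * g) ≤ i ⁻¹ᵁ Proj.basicOpen 𝒜 h) (x : A),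
      (Z.presheaf.map (homOfLE hle').op).hom (ψ i hh x) =
        (i.app _).hom ((Proj.awayToSection 𝒜 (f * g)).hom (HomogeneousLocalization.awayMap 𝒜 hk hx (τ hh x))) := by
    intro h k hh hk hx hle' x
    have e := congr(($(Proj.awayMap_awayToSection 𝒜 (f := h) (g := k) (x := f * g) hk hx)).hom (τ hh x))
    simp only [CommRingCat.hom_comp, RingHom.comp_apply, CommRingCat.hom_ofHom] at e
    rw [e]
    have n' := congr(($(i.naturality (homOfLE (Proj.basicOpen_mono 𝒜 h (f * g) ⟨k, hx⟩)).op)).hom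
      ((Proj.awayToSection 𝒜 h).hom (τ hh x)))
    simp only [CommRingCat.hom_comp, RingHom.comp_apply] at n'
    rw [n']
    rfl
  have hres : (Z.presheaf.map (homOfLE hlef).op).hom (ψ i hf a) = 0 := by
    rw [key hf hg rfl hlef, awayMap_τ_eq hf hg ha, map_mul, map_mul,
      ← key hg hf (mul_comm f g) hleg, h0, map_zero, zero_mul]
  haveI := hW.isLocalization_basicOpen t
  have hres' : algebraMap Γ(Z, i ⁻¹ᵁ Proj.basicOpen 𝒜 f) Γ(Z, Z.basicOpen t) (ψ i hf a) = 0 := by
    change (Z.presheaf.map (homOfLE (Z.basicOpen_le t)).op).hom (ψ i hf a) = 0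
    rw [show (homOfLE (Z.basicOpen_le t)).op = (homOfLE hlef).op ≫ (homOfLE hle).op from rfl,
      Functor.map_comp, CommRingCat.comp_apply, hres, map_zero]
  obtain ⟨⟨_, m, rfl⟩, hm⟩ := (IsLocalization.map_eq_zero_iff (Submonoid.powers t) _ _).1 hres'
  exact ⟨m, by rw [map_mul, map_pow]; exact hm⟩

theorem exists_quotient (s : Finset A) (hs1 : ∀ f ∈ s, f ∈ 𝒜 1)
    (hs : (HomogeneousIdeal.irrelevant 𝒜).toIdeal = Ideal.span (s : Set A)) [IsClosedImmersion i] :
    ∃ (B : Type u) (_ : CommRing B) (_ : Algebra R B) (ℬ : ℕ → Submodule R B) (_ : GradedAlgebra ℬ)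
      (φ : 𝒜 →+*ᵍ ℬ) (_ : Function.Surjective φ)
      (hφ : HomogeneousIdeal.irrelevant ℬ ≤ (HomogeneousIdeal.irrelevant 𝒜).map φ)
      (e : Z ≅ Proj ℬ), e.hom ≫ Proj.map φ hφ = i := by
  classical
  set J : Ideal A := ⨅ f : s, RingHom.ker (ψ i (hs1 f f.2))
  set I := (J.homogeneousCore 𝒜).toIdeal
  have hI : I.IsHomogeneous 𝒜 := (J.homogeneousCore 𝒜).isHomogeneous
  have memI : ∀ {n : ℕ} {a : A}, a ∈ 𝒜 n → (a ∈ I ↔ ∀ f : s, ψ i (hs1 f f.2) a = 0) := by
    intro n a ha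
    refine ⟨fun h f => ?_, fun h => Ideal.mem_homogeneousCore_of_homogeneous_of_mem ⟨n, ha⟩ ?_⟩
    · exact RingHom.mem_ker.1 ((iInf_le (fun f : s => RingHom.ker (ψ i (hs1 f f.2))) f)
        (Ideal.toIdeal_homogeneousCore_le 𝒜 J h))
    · rw [Ideal.mem_iInf]
      exact fun f => RingHom.mem_ker.2 (h f)
  letI := quotGraded (𝒜 := 𝒜) hI
  let φ : 𝒜 →+*ᵍ quotGrading 𝒜 I :=
    { Ideal.Quotient.mk I with map_mem := fun {n x} hx => ⟨x, hx, rfl⟩ }
  have hsurj : Function.Surjective φ := Ideal.Quotient.mk_surjective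
  have hφ : HomogeneousIdeal.irrelevant (quotGrading 𝒜 I) ≤ (HomogeneousIdeal.irrelevant 𝒜).map φ := by
    rw [HomogeneousIdeal.irrelevant_le]
    rintro n hn _ ⟨a, ha, rfl⟩
    exact Ideal.mem_map_of_mem _ (ProjRed.mem_irrelevant hn ha)
  set j := Proj.map φ hφ
  haveI : IsClosedImmersion j := ProjRed.isClosedImmersion_map φ hφ hsurj
  have hker : j.ker = i.ker := by
    refine Scheme.IdealSheafData.ext_of_iSup_eq_top
      (fun f : s => ⟨Proj.basicOpen 𝒜 (f : A), Proj.isAffineOpen_basicOpen 𝒜 _ (hs1 f f.2) one_pos⟩)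
      (Proj.iSup_basicOpen_eq_top 𝒜 _ (by simpa using hs.le)) fun g => ?_
    rw [Scheme.Hom.ker_apply, Scheme.Hom.ker_apply]
    refine Ideal.ext fun z => ?_
    obtain ⟨y, rfl⟩ : ∃ y, (Proj.awayToSection 𝒜 (g : A)).hom y = z :=
      ⟨(Proj.basicOpenIsoAway 𝒜 (g : A) (hs1 g g.2) one_pos).inv.hom z,
        congr(($((Proj.basicOpenIsoAway 𝒜 (g : A) (hs1 g g.2) one_pos).inv_hom_id)).hom z)⟩
    obtain ⟨n, a, ha, rfl⟩ := τ_surjective (hs1 g g.2) y
    rw [RingHom.mem_ker, RingHom.mem_ker]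
    have e : (j.app (Proj.basicOpen 𝒜 (g : A))).hom ((Proj.awayToSection 𝒜 (g : A)).hom (τ (hs1 g g.2) a)) =
        (Proj.awayToSection (quotGrading 𝒜 I) (φ g)).hom
          (HomogeneousLocalization.Away.map φ g (τ (hs1 g g.2) a)) := by
      have h1 : Proj.awayToSection 𝒜 (g : A) ≫ j.app (Proj.basicOpen 𝒜 (g : A)) =
          CommRingCat.ofHom (HomogeneousLocalization.Away.map φ (g : A)) ≫
            Proj.awayToSection (quotGrading 𝒜 I) (φ g) := by
        rw [Scheme.Hom.app_eq_appLE]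
        exact Proj.awayToSection_comp_appLE φ hφ (hs1 g g.2)
      exact congr(($h1).hom (τ (hs1 g g.2) a))
    rw [e]
    have hinj : Function.Injective (Proj.awayToSection (quotGrading 𝒜 I) (φ g)).hom :=
      (ConcreteCategory.bijective_of_isIso (Proj.basicOpenIsoAway (quotGrading 𝒜 I) (φ g)
        (φ.map_mem (hs1 g g.2)) one_pos).hom).1
    rw [map_eq_zero_iff _ hinj, show τ (hs1 g g.2) a =
        HomogeneousLocalization.Away.mk 𝒜 (hs1 g g.2) n a (by simpa using ha) by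
      ext; rw [τ_apply _ ha, HomogeneousLocalization.Away.val_mk],
      HomogeneousLocalization.Away.map_mk]
    constructor
    · intro h
      have h' := congrArg HomogeneousLocalization.val h
      rw [HomogeneousLocalization.Away.val_mk, HomogeneousLocalization.val_zero,
        ← Localization.mk_zero 1, Localization.mk_eq_mk_iff, Localization.r_iff_exists] at h'
      obtain ⟨⟨_, m, rfl⟩, hm⟩ := h'
      simp only [OneMemClass.coe_one, one_mul, mul_zero] at hm
      have hmem : (g : A) ^ m * a ∈ I := by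
        rw [← Ideal.Quotient.eq_zero_iff_mem, map_mul, map_pow]
        exact hm
      have hdeg : (g : A) ^ m * a ∈ 𝒜 (m + n) := by
        simpa using SetLike.mul_mem_graded (SetLike.pow_mem_graded m (hs1 g g.2)) ha
      have h0 := (memI hdeg).1 hmem g
      rw [map_mul, map_pow] at h0
      have hone : ψ i (hs1 g g.2) (g : A) = 1 := by
        have : τ (hs1 g g.2) (g : A) = 1 := by
          ext
          rw [τ_apply _ (hs1 g g.2), HomogeneousLocalization.val_one]
          simp only [pow_one]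
          exact Localization.mk_self (⟨(g : A), Submonoid.mem_powers _⟩ : Submonoid.powers (g : A))
        rw [ψ, RingHom.comp_apply, RingHom.comp_apply, this, map_one, map_one]
      rw [hone, one_pow, one_mul] at h0
      rw [← h0, ψ, RingHom.comp_apply, RingHom.comp_apply]
      congr 2
      ext
      rw [τ_apply _ ha, HomogeneousLocalization.Away.val_mk]
    · intro h
      have h0 : ψ i (hs1 g g.2) a = 0 := by
        rw [ψ, RingHom.comp_apply, RingHom.comp_apply, ← h]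
        congr 2
        ext
        rw [τ_apply _ ha, HomogeneousLocalization.Away.val_mk]
      choose m hm using fun f : s => exists_pow_ψ_eq_zero i (hs1 f f.2) (hs1 g g.2) ha h0
      set M := Finset.univ.sup m
      have hdeg : (g : A) ^ M * a ∈ 𝒜 (M + n) := by
        simpa using SetLike.mul_mem_graded (SetLike.pow_mem_graded M (hs1 g g.2)) ha
      have hmem : (g : A) ^ M * a ∈ I := (memI hdeg).2 fun f => by
        have hle : m f ≤ M := Finset.le_sup (Finset.mem_univ f)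
        rw [show (g : A) ^ M * a = (g : A) ^ (M - m f) * ((g : A) ^ m f * a) by
          rw [← mul_assoc, ← pow_add, Nat.sub_add_cancel hle], map_mul, hm, mul_zero]
      ext
      rw [HomogeneousLocalization.Away.val_mk, HomogeneousLocalization.val_zero,
        ← Localization.mk_zero 1, Localization.mk_eq_mk_iff, Localization.r_iff_exists]
      refine ⟨⟨φ g ^ M, M, rfl⟩, ?_⟩
      simp only [OneMemClass.coe_one, one_mul, mul_zero]
      rw [← map_pow, ← map_mul]
      exact Ideal.Quotient.eq_zero_iff_mem.2 hmem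
  haveI := IsClosedImmersion.isIso_lift j i hker
  exact ⟨_, inferInstance, inferInstance, _, inferInstance, φ, hsurj, hφ,
    asIso (IsClosedImmersion.lift j i hker.le), IsClosedImmersion.lift_fac _ _ _⟩

end Groth.Agent.ProjClosed
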