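import Mathlib

/-! The quotient of a graded algebra by a homogeneous ideal. -/

set_option autoImplicit false
universe u
open DirectSum

noncomputable section

namespace Groth.Agent.ProjClosed

variable {R A : Type u} [CommRing R] [CommRing A] [Algebra R A] (𝒜 : ℕ → Submodule R A) [GradedAlgebra 𝒜]
  (I : Ideal A)

/-- Graded pieces of `A ⧸ I`. -/
def quotGrading (n : ℕ) : Submodule R (A ⧸ I) := (𝒜 n).map (Ideal.Quotient.mkₐ R I).toLinearMap

/-- the projection on degree `n`. -/
def piece (n : ℕ) : 𝒜 n →ₗ[R] quotGrading 𝒜 I n :=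
  ((Ideal.Quotient.mkₐ R I).toLinearMap.comp (𝒜 n).subtype).codRestrict _
    fun x => Submodule.mem_map_of_mem x.2

variable {𝒜 I}

/-- decomposition of a class. -/
def decomposeAux : A →ₗ[R] ⨁ n, quotGrading 𝒜 I n :=
  (DirectSum.lmap (piece 𝒜 I)).comp (DirectSum.decomposeLinearEquiv 𝒜).toLinearMap

lemma decomposeAux_apply (x : A) (n : ℕ) :
    (decomposeAux (I := I) x : ⨁ n, quotGrading 𝒜 I n) n = piece 𝒜 I n (DirectSum.decompose 𝒜 x n) := by
  simp [decomposeAux, DirectSum.decomposeLinearEquiv_apply]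

lemma decomposeAux_eq_zero (hI : I.IsHomogeneous 𝒜) {x : A} (hx : x ∈ I) :
    decomposeAux (𝒜 := 𝒜) (I := I) x = 0 := by
  refine DFinsupp.ext fun n => Subtype.ext ?_
  rw [decomposeAux_apply]
  exact Ideal.Quotient.eq_zero_iff_mem.2 (hI n hx)

lemma decomposeAux_of_mem {n : ℕ} (x : 𝒜 n) :
    decomposeAux (𝒜 := 𝒜) (I := I) (x : A) = DirectSum.of _ n (piece 𝒜 I n x) := by
  simp only [decomposeAux, LinearMap.comp_apply, LinearEquiv.coe_coe,
    DirectSum.decomposeLinearEquiv_apply, DirectSum.decompose_coe]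
  rw [← DirectSum.lof_eq_of R, DirectSum.lmap_lof, DirectSum.lof_eq_of]

/-- decomposition of the quotient. -/
def decomposeQuot (hI : I.IsHomogeneous 𝒜) : (A ⧸ I) →ₗ[R] ⨁ n, quotGrading 𝒜 I n where
  toFun := Quotient.lift (decomposeAux (𝒜 := 𝒜) (I := I)) (fun a b h => sub_eq_zero.1 ((map_sub (decomposeAux (𝒜 := 𝒜) (I := I)) a b).symm.trans
    (decomposeAux_eq_zero hI ((Submodule.quotientRel_def I).1 h))))
  map_add' := by
    rintro ⟨a⟩ ⟨b⟩
    exact map_add (decomposeAux (𝒜 := 𝒜) (I := I)) a b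
  map_smul' := by
    rintro r ⟨a⟩
    exact map_smul (decomposeAux (𝒜 := 𝒜) (I := I)) r a

lemma decomposeQuot_mk (hI : I.IsHomogeneous 𝒜) (x : A) :
    decomposeQuot hI (Ideal.Quotient.mk I x) = decomposeAux (𝒜 := 𝒜) (I := I) x := rfl

/-- The graded algebra structure on `A ⧸ I`. -/
@[implicit_reducible]
def quotGraded (hI : I.IsHomogeneous 𝒜) : GradedAlgebra (quotGrading 𝒜 I) :=
  { (inferInstance : SetLike.GradedMonoid 𝒜) with
    one_mem := ⟨1, SetLike.GradedOne.one_mem, map_one (Ideal.Quotient.mkₐ R I)⟩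
    mul_mem := by
      rintro i j _ _ ⟨a, ha, rfl⟩ ⟨b, hb, rfl⟩
      exact ⟨a * b, SetLike.mul_mem_graded ha hb, map_mul (Ideal.Quotient.mkₐ R I) a b⟩
    __ := DirectSum.Decomposition.ofLinearMap (quotGrading 𝒜 I)
      (decomposeQuot hI)
      (by
        refine LinearMap.ext fun y => ?_
        obtain ⟨x, rfl⟩ := Ideal.Quotient.mk_surjective y
        rw [LinearMap.comp_apply, decomposeQuot_mk, LinearMap.id_apply]
        induction x using DirectSum.Decomposition.inductionOn 𝒜 with
        | zero => simp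
        | @homogeneous n x =>
          rw [decomposeAux_of_mem, DirectSum.coeLinearMap_of]
          rfl
        | add a b ha hb => rw [map_add, map_add, ha, hb, map_add])
      (by
        refine DirectSum.linearMap_ext R fun n => LinearMap.ext fun y => ?_
        obtain ⟨_, x, hx, rfl⟩ := y
        simp only [LinearMap.comp_apply, LinearMap.id_apply, DirectSum.coeLinearMap_lof]
        change decomposeQuot hI (Ideal.Quotient.mk I x) = _
        rw [decomposeQuot_mk]
        exact (decomposeAux_of_mem (⟨x, hx⟩ : 𝒜 n)).trans rfl) }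

end Groth.Agent.ProjClosed
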