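import Groth.Agent.ProjClosed.Main
import Groth.Agent.ProjTwistLib.Ample
import Groth.Agent.ProjUPLib.Sec

/-! A closed subscheme of `Proj A` is `Proj` of the quotient by the forms vanishing on it. -/

set_option autoImplicit false
set_option linter.style.haveILetI false
set_option backward.isDefEq.respectTransparency false
universe u
open CategoryTheory CategoryTheory.Limits AlgebraicGeometry TopologicalSpace Opposite
open Groth.Agent.PullbackMod Groth.Agent.AmpleLib Groth.Agent.ProjTwist Groth.Agent.ParaFLib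

noncomputable section

namespace Groth.Agent.ProjClosed

variable {R A : Type u} [CommRing R] [CommRing A] [Algebra R A] {𝒜 : ℕ → Submodule R A} [GradedAlgebra 𝒜]
variable {Z : Scheme.{u}} (i : Z ⟶ Proj 𝒜)

theorem awayToSection_smul_globalOf {g : A} (hg : g ∈ 𝒜 1) {d : ℕ} (a : 𝒜 d) :
    (Proj.awayToSection 𝒜 g).hom (τ hg a.1) •
        resT (show Γ(Twist.twist 𝒜 (d : ℤ), ⊤) from
          Twist.globalOf 𝒜 (⟨g ^ d, by simpa using SetLike.pow_mem_graded d hg⟩ : 𝒜 d)) (Proj.basicOpen 𝒜 g) =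
      resT (show Γ(Twist.twist 𝒜 (d : ℤ), ⊤) from Twist.globalOf 𝒜 a) (Proj.basicOpen 𝒜 g) := by
  refine sect_ext fun x => ?_
  rw [valAt_smul]
  refine (congrArg (· * _) (ProjectiveSpectrum.Proj.awayToSection_apply 𝒜 g _ x)).trans ?_
  rw [τ_apply hg a.2]
  show IsLocalization.map _ _ _ _ * Localization.mk (g ^ d) ⟨1, ProjCoh.one_notMem x.1⟩ =
    Localization.mk a.1 ⟨1, ProjCoh.one_notMem x.1⟩
  rw [Localization.mk_eq_mk', IsLocalization.map_mk']
  simp only [RingHom.id_apply, ← Localization.mk_eq_mk', Localization.mk_mul, mul_one]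
  rw [Localization.mk_eq_mk_iff, Localization.r_iff_exists]
  exact ⟨1, by simp [mul_comm]⟩

theorem pullSec_eq_zero_iff {ι : Type*} (v : ι → 𝒜 1) (hcov : ⨆ j, Proj.basicOpen 𝒜 (v j).1 = ⊤)
    {d : ℕ} (a : 𝒜 d) :
    ProjUP.pullSec i (Twist.twist 𝒜 (d : ℤ)) (Twist.globalOf 𝒜 a) = 0 ↔ ∀ j, ψ i (v j).2 a.1 = 0 := by
  have hM : PicF.IsInvertible (Twist.twist 𝒜 (d : ℤ)) :=
    ProjTwistLib.isInvertible_of_hasUnit fun x => ProjTwistLib.hasUnit_one_of_cover
      (eq_top_iff.2 (hcov.ge.trans (iSup_le fun j => le_iSup (fun f : 𝒜 1 => Proj.basicOpen 𝒜 (f : A)) (v j)))) _ x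
  have key : ∀ j, resT (ProjUP.pullSec i (Twist.twist 𝒜 (d : ℤ)) (Twist.globalOf 𝒜 a))
      (i ⁻¹ᵁ Proj.basicOpen 𝒜 (v j).1) = 0 ↔ ψ i (v j).2 a.1 = 0 := fun j => by
    let σg : 𝒜 d := ⟨(v j).1 ^ d, by simpa using SetLike.pow_mem_graded d (v j).2⟩
    have hgen : Gen (Proj.basicOpen 𝒜 (v j).1)
        (resT (show Γ(Twist.twist 𝒜 (d : ℤ), ⊤) from Twist.globalOf 𝒜 σg) (Proj.basicOpen 𝒜 (v j).1)) :=
      ProjTwistLib.gen_globalOf σg fun x hx => fun h => hx (x.isPrime.mem_of_pow_mem d h)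
    have hp := ProjUPLib.gen_pullMap i hM hgen (le_refl (i ⁻¹ᵁ Proj.basicOpen 𝒜 (v j).1))
    rw [ProjUPLib.resT_pullSec i le_rfl, ← awayToSection_smul_globalOf (v j).2 a, pullMap_smul]
    have hz : ψ i (v j).2 a.1 = (i.appLE (Proj.basicOpen 𝒜 (v j).1) (i ⁻¹ᵁ Proj.basicOpen 𝒜 (v j).1) le_rfl).hom
        ((Proj.awayToSection 𝒜 (v j).1).hom (τ (v j).2 a.1)) := by
      rw [← Scheme.Hom.app_eq_appLE]
      rfl
    rw [hz]
    refine ⟨fun h => ?_, fun h => ?_⟩
    · refine (hp _ le_rfl).1 ?_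
      show _ • _ = (0 : Γ(Z, _)) • _
      rw [zero_smul, res_self']
      exact h
    · rw [show (_ : Γ(Z, _)) = _ from h, zero_smul]
  refine ⟨fun h j => (key j).1 (by rw [h, resT, map_zero]), fun h => ?_⟩
  refine TopCat.Presheaf.section_ext ⟨((Scheme.Modules.pullback i).obj _).presheaf, ((Scheme.Modules.pullback i).obj _).isSheaf⟩ _ _ _ fun z _ => ?_
  obtain ⟨j, hj⟩ := Opens.mem_iSup.1 (hcov.ge (Opens.mem_top (i z)))
  show ((Scheme.Modules.pullback i).obj _).presheaf.germ ⊤ z trivial _ = ((Scheme.Modules.pullback i).obj _).presheaf.germ ⊤ z trivial 0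
  rw [map_zero, ← TopCat.Presheaf.germ_res_apply _ (homOfLE le_top) z (show z ∈ i ⁻¹ᵁ Proj.basicOpen 𝒜 (v j).1 from hj)]
  exact (congrArg _ ((key j).2 (h j))).trans (map_zero _)

theorem exists_iso_of_ker {ι : Type*} [Fintype ι] (v : ι → 𝒜 1) (hcov : ⨆ j, Proj.basicOpen 𝒜 (v j).1 = ⊤)
    [IsClosedImmersion i] {B : Type u} [CommRing B] [Algebra R B] (ℬ : ℕ → Submodule R B) [GradedAlgebra ℬ]
    (φ : 𝒜 →+*ᵍ ℬ) (hsurj : Function.Surjective φ)
    (memI : ∀ {n : ℕ} {a : A}, a ∈ 𝒜 n → (φ a = 0 ↔ ∀ j, ψ i (v j).2 a = 0))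
    (hφ : HomogeneousIdeal.irrelevant ℬ ≤ (HomogeneousIdeal.irrelevant 𝒜).map φ) :
    ∃ e : Z ≅ Proj ℬ, e.hom ≫ Proj.map φ hφ = i := by
  set j := Proj.map φ hφ
  haveI : IsClosedImmersion j := ProjRed.isClosedImmersion_map φ hφ hsurj
  have hker : j.ker = i.ker := by
    refine Scheme.IdealSheafData.ext_of_iSup_eq_top
      (fun j : ι => ⟨Proj.basicOpen 𝒜 (v j).1, Proj.isAffineOpen_basicOpen 𝒜 _ (v j).2 one_pos⟩)
      hcov fun j₀ => ?_
    let g : A := (v j₀).1
    have hg1 : g ∈ 𝒜 1 := (v j₀).2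
    rw [Scheme.Hom.ker_apply, Scheme.Hom.ker_apply]
    refine Ideal.ext fun z => ?_
    obtain ⟨y, rfl⟩ : ∃ y, (Proj.awayToSection 𝒜 g).hom y = z :=
      ⟨(Proj.basicOpenIsoAway 𝒜 g hg1 one_pos).inv.hom z,
        congr(($((Proj.basicOpenIsoAway 𝒜 g hg1 one_pos).inv_hom_id)).hom z)⟩
    obtain ⟨n, a, ha, rfl⟩ := τ_surjective hg1 y
    rw [RingHom.mem_ker, RingHom.mem_ker]
    have e : (j.app (Proj.basicOpen 𝒜 g)).hom ((Proj.awayToSection 𝒜 g).hom (τ hg1 a)) =
        (Proj.awayToSection ℬ (φ g)).hom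
          (HomogeneousLocalization.Away.map φ g (τ hg1 a)) := by
      have h1 : Proj.awayToSection 𝒜 g ≫ j.app (Proj.basicOpen 𝒜 g) =
          CommRingCat.ofHom (HomogeneousLocalization.Away.map φ g) ≫
            Proj.awayToSection ℬ (φ g) := by
        rw [Scheme.Hom.app_eq_appLE]
        exact Proj.awayToSection_comp_appLE φ hφ hg1
      exact congr(($h1).hom (τ hg1 a))
    rw [e]
    have hinj : Function.Injective (Proj.awayToSection ℬ (φ g)).hom :=
      (ConcreteCategory.bijective_of_isIso (Proj.basicOpenIsoAway ℬ (φ g)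
        (φ.map_mem hg1) one_pos).hom).1
    rw [map_eq_zero_iff _ hinj, show τ hg1 a =
        HomogeneousLocalization.Away.mk 𝒜 hg1 n a (by simpa using ha) by
      ext; rw [τ_apply _ ha, HomogeneousLocalization.Away.val_mk],
      HomogeneousLocalization.Away.map_mk]
    constructor
    · intro h
      have h' := congrArg HomogeneousLocalization.val h
      rw [HomogeneousLocalization.Away.val_mk, HomogeneousLocalization.val_zero,
        ← Localization.mk_zero 1, Localization.mk_eq_mk_iff, Localization.r_iff_exists] at h'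
      obtain ⟨⟨_, m, rfl⟩, hm⟩ := h'
      simp only [OneMemClass.coe_one, one_mul, mul_zero] at hm
      have hmem : φ (g ^ m * a) = 0 := by
        rw [map_mul, map_pow]
        exact hm
      have hdeg : g ^ m * a ∈ 𝒜 (m + n) := by
        simpa using SetLike.mul_mem_graded (SetLike.pow_mem_graded m hg1) ha
      have h0 := (memI hdeg).1 hmem j₀
      rw [map_mul, map_pow] at h0
      have hone : ψ i hg1 g = 1 := by
        have : τ hg1 g = 1 := by
          ext
          rw [τ_apply _ hg1, HomogeneousLocalization.val_one]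
          simp only [pow_one]
          exact Localization.mk_self (⟨g, Submonoid.mem_powers _⟩ : Submonoid.powers g)
        rw [ψ, RingHom.comp_apply, RingHom.comp_apply, this, map_one, map_one]
      rw [hone, one_pow, one_mul] at h0
      rw [← h0, ψ, RingHom.comp_apply, RingHom.comp_apply]
      congr 2
      ext
      rw [τ_apply _ ha, HomogeneousLocalization.Away.val_mk]
    · intro h
      have h0 : ψ i hg1 a = 0 := by
        rw [ψ, RingHom.comp_apply, RingHom.comp_apply, ← h]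
        congr 2
        ext
        rw [τ_apply _ ha, HomogeneousLocalization.Away.val_mk]
      choose m hm using fun j : ι => exists_pow_ψ_eq_zero i (v j).2 hg1 ha h0
      set M := Finset.univ.sup m
      have hdeg : g ^ M * a ∈ 𝒜 (M + n) := by
        simpa using SetLike.mul_mem_graded (SetLike.pow_mem_graded M hg1) ha
      have hmem : φ (g ^ M * a) = 0 := (memI hdeg).2 fun f => by
        have hle : m f ≤ M := Finset.le_sup (Finset.mem_univ f)
        rw [show g ^ M * a = g ^ (M - m f) * (g ^ m f * a) by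
          rw [← mul_assoc, ← pow_add, Nat.sub_add_cancel hle], map_mul, hm, mul_zero]
      ext
      rw [HomogeneousLocalization.Away.val_mk, HomogeneousLocalization.val_zero,
        ← Localization.mk_zero 1, Localization.mk_eq_mk_iff, Localization.r_iff_exists]
      refine ⟨⟨φ g ^ M, M, rfl⟩, ?_⟩
      simp only [OneMemClass.coe_one, one_mul, mul_zero]
      rw [← map_pow, ← map_mul]
      exact hmem
  haveI := IsClosedImmersion.isIso_lift j i hker
  exact ⟨asIso (IsClosedImmersion.lift j i hker.le), IsClosedImmersion.lift_fac _ _ _⟩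

end Groth.Agent.ProjClosed
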